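import Mathlib

set_option autoImplicit false

namespace Cfsg.Agent.Lib.Helper5

universe u

/-- the statement of the p-group lemma for a group type -/
def PStatement (F : Type u) [Group F] : Prop :=
  ∀ S : Set F, (∀ f s : F, s ∈ S → f * s * f⁻¹ ∈ S) → Subgroup.closure S = ⊤ →
    ∀ E : Subgroup F, E ≠ ⊤ → Subgroup.closure (S ∩ (E : Set F)) = E →
      ∃ s ∈ S, s ∉ E ∧ s ∈ Subgroup.normalizer (E : Set F)

theorem pstatement_transport {G : Type u} [Group G] (F : Subgroup G) (hF : PStatement ↥F)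
    (S : Set G) (hS : ∀ f ∈ F, ∀ s ∈ S, f * s * f⁻¹ ∈ S)
    (hgen : Subgroup.closure (S ∩ (F : Set G)) = F) (E : Subgroup G) (hEF : E ≤ F) (hne : E ≠ F)
    (hE : Subgroup.closure (S ∩ (E : Set G)) = E) :
    ∃ s ∈ S, s ∈ F ∧ s ∉ E ∧ s ∈ Subgroup.normalizer (E : Set G) := by
  have h1 : ∀ f s : ↥F, s ∈ ((↑) : ↥F → G) ⁻¹' S → f * s * f⁻¹ ∈ ((↑) : ↥F → G) ⁻¹' S := by
    intro f s hs
    exact hS f.1 f.2 s.1 hs
  have h2 : Subgroup.closure (((↑) : ↥F → G) ⁻¹' S) = ⊤ := by
    apply Subgroup.map_injective F.subtype_injective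
    rw [MonoidHom.map_closure]
    have : (F.subtype '' (((↑) : ↥F → G) ⁻¹' S)) = S ∩ (F : Set G) := by
      ext x
      constructor
      · rintro ⟨y, hy, rfl⟩
        exact ⟨hy, y.2⟩
      · rintro ⟨hx1, hx2⟩
        exact ⟨⟨x, hx2⟩, hx1, rfl⟩
    rw [this, hgen, ← MonoidHom.range_eq_map, Subgroup.range_subtype]
  have h3 : E.subgroupOf F ≠ ⊤ := by
    rw [Ne, Subgroup.subgroupOf_eq_top]
    intro h
    exact hne (le_antisymm hEF h)
  have h4 : Subgroup.closure ((((↑) : ↥F → G) ⁻¹' S) ∩ ((E.subgroupOf F : Subgroup ↥F) : Set ↥F))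
      = E.subgroupOf F := by
    apply Subgroup.map_injective F.subtype_injective
    rw [MonoidHom.map_closure, Subgroup.map_subgroupOf_eq_of_le hEF]
    have : (F.subtype '' ((((↑) : ↥F → G) ⁻¹' S) ∩ ((E.subgroupOf F : Subgroup ↥F) : Set ↥F)))
        = S ∩ (E : Set G) := by
      ext x
      constructor
      · rintro ⟨y, ⟨hy1, hy2⟩, rfl⟩
        exact ⟨hy1, Subgroup.mem_subgroupOf.mp hy2⟩
      · rintro ⟨hx1, hx2⟩
        exact ⟨⟨x, hEF hx2⟩, ⟨hx1, Subgroup.mem_subgroupOf.mpr hx2⟩, rfl⟩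
    rw [this, hE]
  obtain ⟨s, hsS, hsE, hsN⟩ := hF _ h1 h2 _ h3 h4
  refine ⟨s.1, hsS, s.2, fun h => hsE (Subgroup.mem_subgroupOf.mpr h), ?_⟩
  rw [Subgroup.mem_normalizer_iff] at hsN ⊢
  intro h
  constructor
  · intro hh
    have := (hsN ⟨h, hEF hh⟩).mp (Subgroup.mem_subgroupOf.mpr hh)
    exact Subgroup.mem_subgroupOf.mp this
  · intro hh
    have hF' : h ∈ F := by
      have e : h = (s.1)⁻¹ * (s.1 * h * (s.1)⁻¹) * s.1 := by group
      rw [e]
      exact F.mul_mem (F.mul_mem (F.inv_mem s.2) (hEF hh)) s.2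
    have := (hsN ⟨h, hF'⟩).mpr (Subgroup.mem_subgroupOf.mpr hh)
    exact Subgroup.mem_subgroupOf.mp this

theorem closure_normal_of_conj_invariant_bs {F : Type u} [Group F] (T : Set F)
    (hT : ∀ f s : F, s ∈ T → f * s * f⁻¹ ∈ T) : (Subgroup.closure T).Normal := by
  constructor
  intro n hn g
  induction hn using Subgroup.closure_induction with
  | mem x hx => exact Subgroup.subset_closure (hT g x hx)
  | one => simp
  | mul a b _ _ ha hb =>
    have e : g * (a * b) * g⁻¹ = (g * a * g⁻¹) * (g * b * g⁻¹) := by group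
    rw [e]; exact Subgroup.mul_mem _ ha hb
  | inv a _ ha =>
    have e : g * a⁻¹ * g⁻¹ = (g * a * g⁻¹)⁻¹ := by group
    rw [e]; exact Subgroup.inv_mem _ ha

theorem pstatement_all (p : ℕ) [Fact p.Prime] (n : ℕ) :
    ∀ (F : Type u) [Group F] [Finite F], IsPGroup p F → Nat.card F = n → PStatement F := by
  induction n using Nat.strong_induction_on with
  | _ n ih =>
    intro F _ _ hp hn S hS hgen E hE hEgen
    haveI : Group.IsNilpotent F := hp.isNilpotent
    have hNC := Group.normalizerCondition_of_isNilpotent (G := F)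
    rcases eq_top_or_exists_le_coatom E with h | ⟨M, hM, hEM⟩
    · exact absurd h hE
    · have hMn : M.Normal := Subgroup.NormalizerCondition.normal_of_coatom M hNC hM
      have hTinv : ∀ f s : F, s ∈ S ∩ (M : Set F) → f * s * f⁻¹ ∈ S ∩ (M : Set F) := by
        intro f s hs
        exact ⟨hS f s hs.1, hMn.conj_mem s hs.2 f⟩
      have hF'M : Subgroup.closure (S ∩ (M : Set F)) ≤ M := by
        rw [Subgroup.closure_le]; exact Set.inter_subset_right
      have hEF' : E ≤ Subgroup.closure (S ∩ (M : Set F)) := by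
        rw [← hEgen]
        apply Subgroup.closure_mono
        intro x hx
        exact ⟨hx.1, hEM hx.2⟩
      by_cases hcase : E = Subgroup.closure (S ∩ (M : Set F))
      · have hEn : E.Normal := by rw [hcase]; exact closure_normal_of_conj_invariant_bs _ hTinv
        have hex : ∃ s ∈ S, s ∉ M := by
          by_contra hcon
          have hsub : S ⊆ (M : Set F) := by
            intro s hs
            by_contra h
            exact hcon ⟨s, hs, h⟩
          have : Subgroup.closure S ≤ M := by rw [Subgroup.closure_le]; exact hsub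
          rw [hgen] at this
          exact hM.1 (top_unique this)
        obtain ⟨s, hsS, hsM⟩ := hex
        refine ⟨s, hsS, fun h => hsM (hEM h), ?_⟩
        rw [Subgroup.normalizer_eq_top]
        trivial
      · have hcard : Nat.card ↥(Subgroup.closure (S ∩ (M : Set F))) < n := by
          have h1 : Nat.card ↥(Subgroup.closure (S ∩ (M : Set F))) ≤ Nat.card M :=
            Subgroup.card_le_of_le hF'M
          have h2 : Nat.card M < Nat.card F := by
            apply lt_of_le_of_ne (Subgroup.card_le_card_group M)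
            intro h
            exact hM.1 (Subgroup.eq_top_of_card_eq M h)
          omega
        have hps := ih _ hcard ↥(Subgroup.closure (S ∩ (M : Set F)))
          (hp.to_subgroup _) rfl
        have hgen' : Subgroup.closure (S ∩ ((Subgroup.closure (S ∩ (M : Set F)) : Subgroup F) : Set F))
            = Subgroup.closure (S ∩ (M : Set F)) := by
          congr 1
          ext x
          constructor
          · rintro ⟨h1, h2⟩
            exact ⟨h1, hF'M h2⟩
          · intro h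
            exact ⟨h.1, Subgroup.subset_closure h⟩
        obtain ⟨s, hsS, _, hsE, hsN⟩ := pstatement_transport _ hps S
          (fun f _ s hs => hS f s hs) hgen' E hEF' hcase hEgen
        exact ⟨s, hsS, hsE, hsN⟩


theorem mem_sylow_smul_iff_gen {G : Type*} [Group G] {p : ℕ} (P : Sylow p G) (h x : G) :
    x ∈ ((h • P : Sylow p G) : Subgroup G) ↔ h⁻¹ * x * h ∈ (P : Subgroup G) := by
  rw [Sylow.coe_subgroup_smul, Subgroup.mem_pointwise_smul_iff_inv_smul_mem]
  have : (MulAut.conj h)⁻¹ • x = h⁻¹ * x * h := by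
    rw [MulAut.smul_def, MulAut.conj_inv_apply]
  rw [this]

/-- Baer-Suzuki, set form: a conjugation-invariant set of elements, any two of which generate a
`p`-group, lies in every Sylow `p`-subgroup. -/
theorem baer_suzuki_set {G : Type u} [Group G] [Finite G] (p : ℕ) [Fact p.Prime] (K : Set G)
    (hK : ∀ g x : G, x ∈ K → g * x * g⁻¹ ∈ K)
    (hpair : ∀ x ∈ K, ∀ y ∈ K, IsPGroup p (Subgroup.closure ({x, y} : Set G)))
    (x : G) (hx : x ∈ K) (R : Sylow p G) : x ∈ (R : Subgroup G) := by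
  classical
  by_contra hxR
  let T : Set (Sylow p G × Sylow p G) := {PQ | K ∩ (PQ.1 : Set G) ≠ K ∩ (PQ.2 : Set G)}
  have hTne : T.Nonempty := by
    have hpx : IsPGroup p (Subgroup.closure ({x, x} : Set G)) := hpair x hx x hx
    obtain ⟨R1, hR1⟩ := hpx.exists_le_sylow
    refine ⟨(R1, R), ?_⟩
    intro h
    have hx1 : x ∈ K ∩ (R1 : Set G) := ⟨hx, hR1 (Subgroup.subset_closure (by simp))⟩
    rw [h] at hx1
    exact hxR hx1.2
  obtain ⟨⟨P, Q⟩, hPQ, hmax⟩ := Set.exists_max_image T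
    (fun PQ => (K ∩ (PQ.1 : Set G) ∩ (PQ.2 : Set G)).ncard) (Set.toFinite T) hTne
  have hPQ' : K ∩ (P : Set G) ≠ K ∩ (Q : Set G) := hPQ
  have hcard : ∀ (P Q : Sylow p G), (K ∩ (P : Set G)).ncard = (K ∩ (Q : Set G)).ncard := by
    intro P Q
    obtain ⟨g, rfl⟩ := MulAction.exists_smul_eq G P Q
    have : K ∩ ((g • P : Sylow p G) : Set G) = (fun x => g * x * g⁻¹) '' (K ∩ (P : Set G)) := by
      ext y
      constructor
      · rintro ⟨hy1, hy2⟩
        refine ⟨g⁻¹ * y * g, ⟨?_, ?_⟩, by group⟩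
        · have := hK g⁻¹ y hy1
          rwa [inv_inv] at this
        · exact (mem_sylow_smul_iff_gen P g y).mp hy2
      · rintro ⟨z, ⟨hz1, hz2⟩, rfl⟩
        refine ⟨hK g z hz1, ?_⟩
        apply (mem_sylow_smul_iff_gen P g _).mpr
        have e : g⁻¹ * (g * z * g⁻¹) * g = z := by group
        rw [e]; exact hz2
    rw [this, Set.ncard_image_of_injective]
    intro a b h
    simpa using h
  have hexP : ∃ a, a ∈ K ∧ a ∈ (P : Subgroup G) ∧ a ∉ (Q : Subgroup G) := by
    by_contra hcon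
    apply hPQ'
    apply Set.eq_of_subset_of_ncard_le
    · rintro a ⟨ha1, ha2⟩
      refine ⟨ha1, ?_⟩
      by_contra h
      exact hcon ⟨a, ha1, ha2, h⟩
    · exact (hcard Q P).le
    · exact Set.toFinite _
  have hexQ : ∃ b, b ∈ K ∧ b ∈ (Q : Subgroup G) ∧ b ∉ (P : Subgroup G) := by
    by_contra hcon
    apply hPQ'.symm
    apply Set.eq_of_subset_of_ncard_le
    · rintro a ⟨ha1, ha2⟩
      refine ⟨ha1, ?_⟩
      by_contra h
      exact hcon ⟨a, ha1, ha2, h⟩
    · exact (hcard P Q).le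
    · exact Set.toFinite _
  obtain ⟨a0, ha0K, ha0P, ha0Q⟩ := hexP
  obtain ⟨b0, hb0K, hb0Q, hb0P⟩ := hexQ
  obtain ⟨E, hEdef⟩ : ∃ E : Subgroup G, E = Subgroup.closure (K ∩ (P : Set G) ∩ (Q : Set G)) :=
    ⟨_, rfl⟩
  have hEP : E ≤ (P : Subgroup G) := by
    rw [hEdef, Subgroup.closure_le]; intro z hz; exact hz.1.2
  have hEQ : E ≤ (Q : Subgroup G) := by
    rw [hEdef, Subgroup.closure_le]; intro z hz; exact hz.2
  have hsubE : K ∩ (P : Set G) ∩ (Q : Set G) ⊆ (E : Set G) := by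
    rw [hEdef]; exact Subgroup.subset_closure
  have hKE : K ∩ (E : Set G) = K ∩ (P : Set G) ∩ (Q : Set G) := by
    ext z; constructor
    · rintro ⟨h1, h2⟩; exact ⟨⟨h1, hEP h2⟩, hEQ h2⟩
    · rintro ⟨⟨h1, h2⟩, h3⟩; exact ⟨h1, hsubE ⟨⟨h1, h2⟩, h3⟩⟩
  have hEgen : Subgroup.closure (K ∩ (E : Set G)) = E := by rw [hKE, hEdef]
  have side : ∀ P' : Sylow p G, E ≤ (P' : Subgroup G) →
      (∃ a, a ∈ K ∧ a ∈ (P' : Subgroup G) ∧ a ∉ E) →
      ∃ s ∈ K, s ∈ (P' : Subgroup G) ∧ s ∉ E ∧ s ∈ Subgroup.normalizer (E : Set G) := by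
    rintro P' hEP' ⟨a, haK, haP', haE⟩
    have hFP : Subgroup.closure (K ∩ (P' : Set G)) ≤ (P' : Subgroup G) := by
      rw [Subgroup.closure_le]; exact Set.inter_subset_right
    have hFp : IsPGroup p ↥(Subgroup.closure (K ∩ (P' : Set G))) := P'.isPGroup'.to_le hFP
    have hps := pstatement_all p (Nat.card ↥(Subgroup.closure (K ∩ (P' : Set G))))
      ↥(Subgroup.closure (K ∩ (P' : Set G))) hFp rfl
    have hgen : Subgroup.closure (K ∩ ((Subgroup.closure (K ∩ (P' : Set G)) : Subgroup G) : Set G))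
        = Subgroup.closure (K ∩ (P' : Set G)) := by
      congr 1
      ext z; constructor
      · rintro ⟨h1, h2⟩; exact ⟨h1, hFP h2⟩
      · intro h; exact ⟨h.1, Subgroup.subset_closure h⟩
    have hEF : E ≤ Subgroup.closure (K ∩ (P' : Set G)) := by
      rw [← hEgen]; apply Subgroup.closure_mono
      rintro z ⟨h1, h2⟩; exact ⟨h1, hEP' h2⟩
    have hne : E ≠ Subgroup.closure (K ∩ (P' : Set G)) := by
      intro h; apply haE; rw [h]; exact Subgroup.subset_closure ⟨haK, haP'⟩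
    obtain ⟨s, hsK, hsF, hsE, hsN⟩ := pstatement_transport _ hps K
      (fun f _ s hs => hK f s hs) hgen E hEF hne hEgen
    exact ⟨s, hsK, hFP hsF, hsE, hsN⟩
  obtain ⟨x1, hx1K, hx1P, hx1E, hx1N⟩ := side P hEP ⟨a0, ha0K, ha0P, fun h => ha0Q (hEQ h)⟩
  obtain ⟨y1, hy1K, hy1Q, hy1E, hy1N⟩ := side Q hEQ ⟨b0, hb0K, hb0Q, fun h => hb0P (hEP h)⟩
  have hH : IsPGroup p (Subgroup.closure ({x1, y1} : Set G)) := hpair x1 hx1K y1 hy1K
  have hHN : Subgroup.closure ({x1, y1} : Set G) ≤ Subgroup.normalizer (E : Set G) := by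
    rw [Subgroup.closure_le]; intro z hz
    rcases hz with rfl | rfl
    · exact hx1N
    · exact hy1N
  have hHE := IsPGroup.to_sup_of_normal_right' hH (P.isPGroup'.to_le hEP) hHN
  obtain ⟨R', hR'⟩ := hHE.exists_le_sylow
  have hx1R : x1 ∈ (R' : Subgroup G) :=
    hR' ((le_sup_left : Subgroup.closure ({x1, y1} : Set G) ≤ _)
      (Subgroup.subset_closure (by simp)))
  have hy1R : y1 ∈ (R' : Subgroup G) :=
    hR' ((le_sup_left : Subgroup.closure ({x1, y1} : Set G) ≤ _)
      (Subgroup.subset_closure (by simp)))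
  have hER : E ≤ (R' : Subgroup G) := le_sup_right.trans hR'
  have h1 : K ∩ (R' : Set G) = K ∩ (P : Set G) := by
    by_contra hne
    have hle := hmax (R', P) hne
    have hlt : (K ∩ (P : Set G) ∩ (Q : Set G)).ncard < (K ∩ (R' : Set G) ∩ (P : Set G)).ncard := by
      apply Set.ncard_lt_ncard _ (Set.toFinite _)
      constructor
      · rintro z ⟨⟨hz1, hz2⟩, hz3⟩
        exact ⟨⟨hz1, hER (hsubE ⟨⟨hz1, hz2⟩, hz3⟩)⟩, hz2⟩
      · intro hsup
        have := hsup ⟨⟨hx1K, hx1R⟩, hx1P⟩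
        exact hx1E (hsubE this)
    simp only at hle
    omega
  have h2 : K ∩ (R' : Set G) = K ∩ (Q : Set G) := by
    by_contra hne
    have hle := hmax (R', Q) hne
    have hlt : (K ∩ (P : Set G) ∩ (Q : Set G)).ncard < (K ∩ (R' : Set G) ∩ (Q : Set G)).ncard := by
      apply Set.ncard_lt_ncard _ (Set.toFinite _)
      constructor
      · rintro z ⟨⟨hz1, hz2⟩, hz3⟩
        exact ⟨⟨hz1, hER (hsubE ⟨⟨hz1, hz2⟩, hz3⟩)⟩, hz3⟩
      · intro hsup
        have := hsup ⟨⟨hy1K, hy1R⟩, hy1Q⟩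
        exact hy1E (hsubE this)
    simp only at hle
    omega
  exact hPQ' (h1.symm.trans h2)

end Cfsg.Agent.Lib.Helper5
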