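import Mathlib

set_option autoImplicit false

namespace Cfsg.Agent.Lib.Helper5

open MulAction
open scoped Classical

/-- Burnside's lemma in `Nat.card` form. -/
theorem burnside_card (G Ω : Type*) [Group G] [Fintype G] [MulAction G Ω] [Finite Ω] :
    ∑ g : G, Nat.card (fixedBy Ω g) = Nat.card (orbitRel.Quotient G Ω) * Nat.card G := by
  have := Fintype.ofFinite Ω
  have h := MulAction.sum_card_fixedBy_eq_card_orbits_mul_card_group G Ω
  simp only [Nat.card_eq_fintype_card]
  convert h using 1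

theorem card_fixedBy_prod (G Ω : Type*) [Group G] [MulAction G Ω] (g : G) :
    Nat.card (fixedBy (Ω × Ω) g) = Nat.card (fixedBy Ω g) ^ 2 := by
  rw [sq, ← Nat.card_prod]
  apply Nat.card_congr
  exact
    { toFun := fun x => (⟨x.1.1, congrArg Prod.fst x.2⟩, ⟨x.1.2, congrArg Prod.snd x.2⟩)
      invFun := fun y => ⟨(y.1.1, y.2.1), Prod.ext y.1.2 y.2.2⟩
      left_inv := fun x => rfl
      right_inv := fun y => rfl }

/-- splitting a sum over `G` along a subgroup `D` -/
theorem sum_split_subgroup {G : Type*} [Group G] [Fintype G] (D : Subgroup G) (F : G → ℕ) :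
    ∑ g : G, F g = ∑ d : D, F d + ∑ g ∈ Finset.univ.filter (fun g => g ∉ D), F g := by
  rw [← Finset.sum_filter_add_sum_filter_not Finset.univ (· ∈ D) F]
  congr 1
  rw [Finset.sum_subtype (Finset.univ.filter (· ∈ D)) (p := (· ∈ D)) (by intro x; simp)]

theorem card_filter_not_mem {G : Type*} [Group G] [Fintype G] (D : Subgroup G) :
    (Finset.univ.filter (fun g : G => g ∉ D)).card = Nat.card G - Nat.card D := by
  have h1 : (Finset.univ.filter (fun g : G => g ∈ D)).card = Nat.card D :=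
    (Nat.subtype_card _ (by simp)).symm
  have h2 := Finset.card_filter_add_card_filter_not (s := (Finset.univ : Finset G)) (p := (· ∈ D))
  rw [h1, Finset.card_univ, ← Nat.card_eq_fintype_card] at h2
  omega

theorem sum_split_eq {G : Type*} [Group G] [Fintype G] (D : Subgroup G) (F : G → ℕ)
    (hF : ∀ g, g ∉ D → F g = 1) :
    ∑ g : G, F g = ∑ d : D, F d + (Nat.card G - Nat.card D) := by
  rw [sum_split_subgroup D F, ← card_filter_not_mem D]
  congr 1
  rw [Finset.card_eq_sum_ones]
  apply Finset.sum_congr rfl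
  intro g hg
  simp only [Finset.mem_filter, Finset.mem_univ, true_and] at hg
  exact hF g hg

theorem sum_split_le {G : Type*} [Group G] [Fintype G] (D : Subgroup G) (F : G → ℕ)
    (hF : ∀ g, g ∉ D → 1 ≤ F g) :
    ∑ d : D, F d + (Nat.card G - Nat.card D) ≤ ∑ g : G, F g := by
  rw [sum_split_subgroup D F, ← card_filter_not_mem D]
  apply Nat.add_le_add_left
  rw [Finset.card_eq_sum_ones]
  apply Finset.sum_le_sum
  intro g hg
  simp only [Finset.mem_filter, Finset.mem_univ, true_and] at hg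
  exact hF g hg

theorem sum_split_lt {G : Type*} [Group G] [Fintype G] (D : Subgroup G) (F : G → ℕ)
    (hF : ∀ g, g ∉ D → 1 ≤ F g) (g₀ : G) (hg₀ : g₀ ∉ D) (h2 : 2 ≤ F g₀) :
    ∑ d : D, F d + (Nat.card G - Nat.card D) + 1 ≤ ∑ g : G, F g := by
  rw [sum_split_subgroup D F, ← card_filter_not_mem D, add_assoc]
  apply Nat.add_le_add_left
  have hmem : g₀ ∈ Finset.univ.filter (fun g : G => g ∉ D) := by simp [hg₀]
  rw [← Finset.add_sum_erase _ _ hmem]
  have h3 : ((Finset.univ.filter (fun g : G => g ∉ D)).erase g₀).card ≤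
      ∑ g ∈ (Finset.univ.filter (fun g : G => g ∉ D)).erase g₀, F g := by
    rw [Finset.card_eq_sum_ones]
    apply Finset.sum_le_sum
    intro g hg
    simp only [Finset.mem_erase, Finset.mem_filter, Finset.mem_univ, true_and] at hg
    exact hF g hg.2
  rw [Finset.card_erase_of_mem hmem] at h3
  have hpos : 0 < (Finset.univ.filter (fun g : G => g ∉ D)).card := Finset.card_pos.2 ⟨g₀, hmem⟩
  omega

/-- The subgroup generated by the derangements of a transitive group is transitive and
contains every element whose number of fixed points is not `1`. -/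
theorem derang_main {G Ω : Type*} [Group G] [Finite G] [MulAction G Ω] [Finite Ω]
    (htrans : IsPretransitive G Ω) (D : Subgroup G)
    (hD : ∀ g : G, (∀ ω : Ω, g • ω ≠ ω) → g ∈ D) :
    Nat.card (orbitRel.Quotient D Ω) ≤ 1 ∧ ∀ g : G, g ∉ D → Nat.card (fixedBy Ω g) = 1 := by
  have := Fintype.ofFinite G
  have hG := burnside_card G Ω
  have hDs := burnside_card D Ω
  have hG1 : Nat.card (orbitRel.Quotient G Ω) ≤ 1 :=
    Finite.card_le_one_iff_subsingleton.2 ((pretransitive_iff_subsingleton_quotient G Ω).1 htrans)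
  have hfix : ∀ g : G, g ∉ D → ∃ ω : Ω, g • ω = ω := by
    intro g hg
    by_contra hcon
    exact hg (hD g (fun ω h => hcon ⟨ω, h⟩))
  have hf : ∀ g : G, g ∉ D → 1 ≤ Nat.card (fixedBy Ω g) := by
    intro g hg
    obtain ⟨ω, hω⟩ := hfix g hg
    have : Nonempty (fixedBy Ω g) := ⟨⟨ω, hω⟩⟩
    exact Nat.card_pos
  have hDle : Nat.card D ≤ Nat.card G := Subgroup.card_le_card_group D
  have hDpos : 0 < Nat.card D := Nat.card_pos
  have hGle : ∑ g : G, Nat.card (fixedBy Ω g) ≤ Nat.card G := by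
    rw [hG]
    calc Nat.card (orbitRel.Quotient G Ω) * Nat.card G ≤ 1 * Nat.card G :=
          Nat.mul_le_mul_right _ hG1
      _ = Nat.card G := one_mul _
  have hDs' : ∑ d : D, Nat.card (fixedBy Ω (d : G)) =
      Nat.card (orbitRel.Quotient D Ω) * Nat.card D := hDs
  have h1 := sum_split_le D (fun g => Nat.card (fixedBy Ω g)) hf
  rw [hDs'] at h1
  have ht : Nat.card (orbitRel.Quotient D Ω) ≤ 1 := by
    by_contra h
    have h2 : 2 ≤ Nat.card (orbitRel.Quotient D Ω) := by omega
    have h3 : 2 * Nat.card D ≤ Nat.card (orbitRel.Quotient D Ω) * Nat.card D :=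
      Nat.mul_le_mul_right _ h2
    omega
  refine ⟨ht, ?_⟩
  intro g₀ hg₀
  by_contra hne
  have h2 : 2 ≤ Nat.card (fixedBy Ω g₀) := by have := hf g₀ hg₀; omega
  have h4 := sum_split_lt D (fun g => Nat.card (fixedBy Ω g)) hf g₀ hg₀ h2
  rw [hDs'] at h4
  have ht1 : 1 ≤ Nat.card (orbitRel.Quotient D Ω) := by
    obtain ⟨ω, -⟩ := hfix g₀ hg₀
    have : Nonempty (orbitRel.Quotient D Ω) := ⟨Quotient.mk'' ω⟩
    exact Nat.card_pos
  have h5 : 1 * Nat.card D ≤ Nat.card (orbitRel.Quotient D Ω) * Nat.card D :=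
    Nat.mul_le_mul_right _ ht1
  omega

/-- rank relation between a transitive group and its derangement subgroup -/
theorem derang_rank {G Ω : Type*} [Group G] [Finite G] [MulAction G Ω] [Finite Ω]
    (htrans : IsPretransitive G Ω) (D : Subgroup G)
    (hD : ∀ g : G, (∀ ω : Ω, g • ω ≠ ω) → g ∈ D) :
    (Nat.card (orbitRel.Quotient D (Ω × Ω)) - 1) * Nat.card D =
      (Nat.card (orbitRel.Quotient G (Ω × Ω)) - 1) * Nat.card G := by
  have := Fintype.ofFinite G
  obtain ⟨-, hone⟩ := derang_main htrans D hD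
  have hG := burnside_card G (Ω × Ω)
  have hDs := burnside_card D (Ω × Ω)
  have hDs' : ∑ d : D, Nat.card (fixedBy (Ω × Ω) (d : G)) =
      Nat.card (orbitRel.Quotient D (Ω × Ω)) * Nat.card D := hDs
  have h1 := sum_split_eq D (fun g => Nat.card (fixedBy (Ω × Ω) g))
    (fun g hg => by rw [card_fixedBy_prod, hone g hg, one_pow])
  rw [hDs', hG] at h1
  have hDle : Nat.card D ≤ Nat.card G := Subgroup.card_le_card_group D
  have hDpos : 0 < Nat.card D := Nat.card_pos
  rcases isEmpty_or_nonempty Ω with hΩ | hΩ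
  · have e1 : Nat.card (orbitRel.Quotient D (Ω × Ω)) = 0 := by
      have : IsEmpty (orbitRel.Quotient D (Ω × Ω)) :=
        ⟨fun q => Quotient.inductionOn' q (fun x => hΩ.false x.1)⟩
      exact Nat.card_of_isEmpty
    have e2 : Nat.card (orbitRel.Quotient G (Ω × Ω)) = 0 := by
      have : IsEmpty (orbitRel.Quotient G (Ω × Ω)) :=
        ⟨fun q => Quotient.inductionOn' q (fun x => hΩ.false x.1)⟩
      exact Nat.card_of_isEmpty
    rw [e1, e2]
    simp
  · obtain ⟨ω⟩ := hΩ
    have p1 : 1 ≤ Nat.card (orbitRel.Quotient D (Ω × Ω)) := by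
      have : Nonempty (orbitRel.Quotient D (Ω × Ω)) := ⟨Quotient.mk'' (ω, ω)⟩
      exact Nat.card_pos
    have p2 : 1 ≤ Nat.card (orbitRel.Quotient G (Ω × Ω)) := by
      have : Nonempty (orbitRel.Quotient G (Ω × Ω)) := ⟨Quotient.mk'' (ω, ω)⟩
      exact Nat.card_pos
    obtain ⟨a, ha⟩ := Nat.exists_eq_add_of_le p1
    obtain ⟨b, hb⟩ := Nat.exists_eq_add_of_le p2
    rw [ha, hb] at h1 ⊢
    simp only [Nat.add_sub_cancel_left]
    have h2 : (1 + b) * Nat.card G = (1 + a) * Nat.card D + (Nat.card G - Nat.card D) := h1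
    rw [add_mul, add_mul, one_mul, one_mul] at h2
    omega

end Cfsg.Agent.Lib.Helper5
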