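import Mathlib
import Cfsg.Prelude.Def_Involutions

set_option autoImplicit false

namespace Cfsg.Agent.Lib.Helper5

theorem exists_invol_of_even_inf {G : Type*} [Group G] [Finite G] (H : Subgroup G) (g : G)
    (h : ¬ Odd (Nat.card ↥(H ⊓ H.map (MulAut.conj g).toMonoidHom))) :
    ∃ t ∈ H, orderOf t = 2 ∧ ∃ t' ∈ H, orderOf t' = 2 ∧ t = g * t' * g⁻¹ := by
  rw [Nat.not_odd_iff_even, even_iff_two_dvd] at h
  haveI : Fact (Nat.Prime 2) := ⟨Nat.prime_two⟩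
  obtain ⟨⟨t, ht⟩, hto⟩ := exists_prime_orderOf_dvd_card' 2 h
  rw [Subgroup.orderOf_mk] at hto
  obtain ⟨htH, t', ht'H, ht'⟩ := ht
  have ht'' : t = g * t' * g⁻¹ := ht'.symm
  refine ⟨t, htH, hto, t', ht'H, ?_, ht''⟩
  have : orderOf ((MulAut.conj g) t') = orderOf t' := MulEquiv.orderOf_eq _ _
  rw [← this]
  rw [MulAut.conj_apply, ← ht'']
  exact hto

theorem not_odd_of_invol_mem {G : Type*} [Group G] [Finite G] (K : Subgroup G) (t : G)
    (ht : t ∈ K) (h2 : orderOf t = 2) : ¬ Odd (Nat.card K) := by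
  rw [Nat.not_odd_iff_even, even_iff_two_dvd, ← h2, ← Subgroup.orderOf_mk t ht]
  exact orderOf_dvd_natCard _

theorem mem_inf_conj {G : Type*} [Group G] (H : Subgroup G) (g t' : G) (h1 : g * t' * g⁻¹ ∈ H)
    (h2 : t' ∈ H) : g * t' * g⁻¹ ∈ H ⊓ H.map (MulAut.conj g).toMonoidHom :=
  ⟨h1, t', h2, rfl⟩

end Cfsg.Agent.Lib.Helper5
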